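/- Fi23 on the 412896 cosets of `K = ⟨b,…,j⟩`: the faithful permutation model. -/
import Cfsg.Agent.SPOR.Fi23
import Cfsg.Agent.SPOR.BM.Rel0
import Cfsg.Agent.SPOR.BM.Rel1
set_option autoImplicit false
set_option exponentiation.threshold 500000
set_option Elab.async false
set_option maxRecDepth 100000

namespace CL.BM
open CL.CE CL.K CL.Net CL.Fi Cfsg.Spor

theorem relq : ∀ e ∈ (relEqs R23), ev (sigma nets) e.1 = ev (sigma nets) e.2 :=
  (forall_mem_of_take_drop 46 (valid.eq_of_planes (by norm_num) ((((((((((((((((((((uptoPlane_zero 19 ((relEqs R23).take 46)).step relq_0_0 rfl).step relq_0_1 rfl).step relq_0_2 rfl).step relq_0_3 rfl).step relq_0_4 rfl).step relq_0_5 rfl).step relq_0_6 rfl).step relq_0_7 rfl).step relq_0_8 rfl).step relq_0_9 rfl).step relq_0_10 rfl).step relq_0_11 rfl).step relq_0_12 rfl).step relq_0_13 rfl).step relq_0_14 rfl).step relq_0_15 rfl).step relq_0_16 rfl).step relq_0_17 rfl).step relq_0_18 rfl))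
  (forall_mem_of_take_drop 10 (valid.eq_of_planes (by norm_num) ((((((((((((((((((((uptoPlane_zero 19 (((relEqs R23).drop 46).take 10)).step relq_1_0 rfl).step relq_1_1 rfl).step relq_1_2 rfl).step relq_1_3 rfl).step relq_1_4 rfl).step relq_1_5 rfl).step relq_1_6 rfl).step relq_1_7 rfl).step relq_1_8 rfl).step relq_1_9 rfl).step relq_1_10 rfl).step relq_1_11 rfl).step relq_1_12 rfl).step relq_1_13 rfl).step relq_1_14 rfl).step relq_1_15 rfl).step relq_1_16 rfl).step relq_1_17 rfl).step relq_1_18 rfl))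
  (valid.eq_of_planes (by norm_num) (((((((((((uptoPlane_zero 19 (((relEqs R23).drop 46).drop 10)).step relq_2_0 rfl).step relq_2_1 rfl).step relq_2_2 rfl).step relq_2_3 rfl).step relq_2_4 rfl).step relq_2_5 rfl).step relq_2_6 rfl).step relq_2_7 rfl).step relq_2_8 rfl).step relq_2_9 rfl))))
theorem top : topOK nets [[0], [1], [2], [3], [4], [5], [6], [7], [8], [9]] [[1], [2], [3], [4], [5], [6], [7], [8], [9]] 14 412896 458752 19 = true := by
  with_reducible exact topOK_of top1 top2 top3 (by decide)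

theorem pres0 : Pres (sigma nets) id R23 :=
  (pres_of_rel (ivl := List.range 10) (rel_of_eqs relq) (by decide +kernel)).toId

theorem geK_9 : 1 ≤ Nat.card (gen (sigma Fi23.nets0) []) := one_le_card_gen Fi23.valid0 []
theorem geK_8 : 2 ≤ Nat.card (gen (sigma Fi23.nets0) [[8]]) :=
  Fi23.valid0.step_le (ws' := []) (d := 1) (dc := 11) (p := 1) (n := 2) (by decide +kernel)
    (gen_le_iff.2 fun w hw => ev_mem_gen (by revert w; decide)) geK_9 (by norm_num)
theorem geK_7 : 6 ≤ Nat.card (gen (sigma Fi23.nets0) [[7], [8]]) :=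
  Fi23.valid0.step_le (ws' := [[8]]) (d := 1) (dc := 11) (p := 9024) (n := 3) (by decide +kernel)
    (gen_le_iff.2 fun w hw => ev_mem_gen (by revert w; decide)) geK_8 (by norm_num)
theorem geK_6 : 24 ≤ Nat.card (gen (sigma Fi23.nets0) [[3], [7], [8]]) :=
  Fi23.valid0.step_le (ws' := [[7], [8]]) (d := 1) (dc := 11) (p := 30081) (n := 4) (by decide +kernel)
    (gen_le_iff.2 fun w hw => ev_mem_gen (by revert w; decide)) geK_7 (by norm_num)
theorem geK_5 : 120 ≤ Nat.card (gen (sigma Fi23.nets0) [[3], [4], [7], [8]]) :=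
  Fi23.valid0.step_le (ws' := [[3], [7], [8]]) (d := 2) (dc := 11) (p := 1053) (n := 5) (by decide +kernel)
    (gen_le_iff.2 fun w hw => ev_mem_gen (by revert w; decide)) geK_6 (by norm_num)
theorem geK_4 : 1920 ≤ Nat.card (gen (sigma Fi23.nets0) [[2], [3], [4], [7], [8]]) :=
  Fi23.valid0.step_le (ws' := [[3], [4], [7], [8]]) (d := 3) (dc := 11) (p := 10748) (n := 16) (by decide +kernel)
    (gen_le_iff.2 fun w hw => ev_mem_gen (by revert w; decide)) geK_5 (by norm_num)
theorem geK_3 : 51840 ≤ Nat.card (gen (sigma Fi23.nets0) [[2], [3], [4], [5], [7], [8]]) :=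
  Fi23.valid0.step_le (ws' := [[2], [3], [4], [7], [8]]) (d := 6) (dc := 11) (p := 15689) (n := 27) (by decide +kernel)
    (gen_le_iff.2 fun w hw => ev_mem_gen (by revert w; decide)) geK_4 (by norm_num)
theorem geK_2 : 2903040 ≤ Nat.card (gen (sigma Fi23.nets0) [[2], [3], [4], [5], [6], [7], [8]]) :=
  Fi23.valid0.step_le (ws' := [[2], [3], [4], [5], [7], [8]]) (d := 9) (dc := 11) (p := 27684) (n := 56) (by decide +kernel)
    (gen_le_iff.2 fun w hw => ev_mem_gen (by revert w; decide)) geK_3 (by norm_num)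
theorem geK_1 : 348364800 ≤ Nat.card (gen (sigma Fi23.nets0) [[2], [3], [4], [5], [6], [7], [8], [9]]) :=
  Fi23.valid0.step_le (ws' := [[2], [3], [4], [5], [6], [7], [8]]) (d := 10) (dc := 11) (p := 0) (n := 120) (by decide +kernel)
    (gen_le_iff.2 fun w hw => ev_mem_gen (by revert w; decide)) geK_2 (by norm_num)
theorem geK_0 : 9904359628800 ≤ Nat.card (gen (sigma Fi23.nets0) [[1], [2], [3], [4], [5], [6], [7], [8], [9]]) :=
  Fi23.valid0.step_le (ws' := [[2], [3], [4], [5], [6], [7], [8], [9]]) (d := 8) (dc := 11) (p := 19603) (n := 28431) (by decide +kernel)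
    (gen_le_iff.2 fun w hw => ev_mem_gen (by revert w; decide)) geK_1 (by norm_num)

theorem exists_phi : ∃ φ : Fi23 →* Equiv.Perm ℕ, Lift φ Fi23.g0 nets :=
  exists_lift (ivl := List.range 10) Fi23.code (by decide +kernel) (pres0.ofId 10)
    (by decide +kernel) rfl

/-- the action on the 412896 cosets -/
noncomputable def φ : Fi23 →* Equiv.Perm ℕ := exists_phi.choose

theorem lift : Lift φ Fi23.g0 nets := exists_phi.choose_spec

/-- the generators of `K` -/
def ks : List (List ℕ) := [[1], [2], [3], [4], [5], [6], [7], [8], [9]]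

theorem φ_inj : Function.Injective φ := by
  have := Fi23.isSimpleGroup
  rw [← MonoidHom.ker_eq_bot_iff]
  refine (Subgroup.Normal.eq_bot_or_eq_top φ.normal_ker).resolve_right fun e => ?_
  have h1 : φ (ev Fi23.g0 [0]) = 1 := e.ge (Subgroup.mem_top _)
  have h2 := valid.testBit_appw [0] (2 ^ 0) 0
  rw [← lift.ev, h1] at h2
  exact absurd h2 (by decide +kernel)

theorem card_K_ge : 9904359628800 ≤ Nat.card (gen Fi23.g0 ks) := by
  rw [← Fi23.gen_g (by decide +kernel), Fi23.lift.card_gen Fi23.model.inj]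
  exact geK_0

theorem model_card : Model φ (gen Fi23.g0 ks) 412896 ∧
    Nat.card Fi23 = 412896 * 9904359628800 ∧ Nat.card (gen Fi23.g0 ks) = 9904359628800 :=
  valid.model lift Fi23.gen_top0 top ((lift.card_gen φ_inj ks) ▸ card_K_ge)
    (le_Fi23 Fi23.pres_g0)

theorem model : Model φ (gen Fi23.g0 ks) 412896 := model_card.1

theorem card_K : Nat.card (gen Fi23.g0 ks) = 9904359628800 := model_card.2.2

end CL.BM
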