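/- Further letters of Fi23 (generated). -/
import Cfsg.Agent.SPOR.Fi23
import Cfsg.Agent.SPOR.BM.Msk
set_option autoImplicit false
set_option Elab.async false
set_option maxRecDepth 100000

namespace CL.BM
open CL.CE CL.K CL.Net

def defs : List (List ℕ) := [[0],
  [1],
  [2],
  [3],
  [4],
  [5],
  [6],
  [7],
  [8],
  [9],
  [8,5,6,1,2,4,7,3,4,8,5,7,6,1,2,3,4,6,1,5,2,7,8,3,7,1,5,6,4,8,2,3],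
  [3,2,8,4,6,5,1,7,3,8,7,2,5,1,6,4,3,2,1,6,7,5,8,4,3,7,4,2,1,6,5,8],
  [8,5,6,1,2,4,7,3,4,8,5,7,6,1,2,3,4,6,1,5,2,7,8,3,7,1,5,6,4,8,2,3,4,8,5,6,1,2,4,7,3,4,8,5,7,6,1,2,3,4,6,1,5,2,7,8,3,7,1,5,6,4,8,2,3,6,2,8,5,6,1,2,4,7,3,4,8,5,7,6,1,2,3,4,6,1,5,2,7,8,3,7,1,5,6,4,8,2,3],
  [3,2,8,4,6,5,1,7,3,8,7,2,5,1,6,4,3,2,1,6,7,5,8,4,3,7,4,2,1,6,5,8,2,6,3,2,8,4,6,5,1,7,3,8,7,2,5,1,6,4,3,2,1,6,7,5,8,4,3,7,4,2,1,6,5,8,4,3,2,8,4,6,5,1,7,3,8,7,2,5,1,6,4,3,2,1,6,7,5,8,4,3,7,4,2,1,6,5,8],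
  [8,5,6,1,2,4,7,3,4,8,5,7,6,1,2,3,4,6,1,5,2,7,8,3,7,1,5,6,4,8,2,3,4,8,5,6,1,2,4,7,3,4,8,5,7,6,1,2,3,4,6,1,5,2,7,8,3,7,1,5,6,4,8,2,3,6,2,8,5,6,1,2,4,7,3,4,8,5,7,6,1,2,3,4,6,1,5,2,7,8,3,7,1,5,6,4,8,2,3,3,8,5,6,1,2,4,7,3,4,8,5,7,6,1,2,3,4,6,1,5,2,7,8,3,7,1,5,6,4,8,2,3,7,8,5,6,1,2,4,7,3,4,8,5,7,6,1,2,3,4,6,1,5,2,7,8,3,7,1,5,6,4,8,2,3,4,8,5,6,1,2,4,7,3,4,8,5,7,6,1,2,3,4,6,1,5,2,7,8,3,7,1,5,6,4,8,2,3,6,2,8,5,6,1,2,4,7,3,4,8,5,7,6,1,2,3,4,6,1,5,2,7,8,3,7,1,5,6,4,8,2,3,5,8],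
  [8,5,3,2,8,4,6,5,1,7,3,8,7,2,5,1,6,4,3,2,1,6,7,5,8,4,3,7,4,2,1,6,5,8,2,6,3,2,8,4,6,5,1,7,3,8,7,2,5,1,6,4,3,2,1,6,7,5,8,4,3,7,4,2,1,6,5,8,4,3,2,8,4,6,5,1,7,3,8,7,2,5,1,6,4,3,2,1,6,7,5,8,4,3,7,4,2,1,6,5,8,7,3,2,8,4,6,5,1,7,3,8,7,2,5,1,6,4,3,2,1,6,7,5,8,4,3,7,4,2,1,6,5,8,3,3,2,8,4,6,5,1,7,3,8,7,2,5,1,6,4,3,2,1,6,7,5,8,4,3,7,4,2,1,6,5,8,2,6,3,2,8,4,6,5,1,7,3,8,7,2,5,1,6,4,3,2,1,6,7,5,8,4,3,7,4,2,1,6,5,8,4,3,2,8,4,6,5,1,7,3,8,7,2,5,1,6,4,3,2,1,6,7,5,8,4,3,7,4,2,1,6,5,8],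
  [8,5,6,1,2,4,7,3,4,8,5,7,6,1,2,3,4,6,1,5,2,7,8,3,7,1,5,6,4,8,2,3,0,9,8,5,6,1,2,4,7,3,4,8,5,7,6,1,2,3,4,6,1,5,2,7,8,3,7,1,5,6,4,8,2,3,4,8,5,6,1,2,4,7,3,4,8,5,7,6,1,2,3,4,6,1,5,2,7,8,3,7,1,5,6,4,8,2,3,6,2,8,5,6,1,2,4,7,3,4,8,5,7,6,1,2,3,4,6,1,5,2,7,8,3,7,1,5,6,4,8,2,3,0,9,8,5,6,1,2,4,7,3,4,8,5,7,6,1,2,3,4,6,1,5,2,7,8,3,7,1,5,6,4,8,2,3,4,8,5,6,1,2,4,7,3,4,8,5,7,6,1,2,3,4,6,1,5,2,7,8,3,7,1,5,6,4,8,2,3,6,2,8,5,6,1,2,4,7,3,4,8,5,7,6,1,2,3,4,6,1,5,2,7,8,3,7,1,5,6,4,8,2,3,3,8,5,6,1,2,4,7,3,4,8,5,7,6,1,2,3,4,6,1,5,2,7,8,3,7,1,5,6,4,8,2,3,7,8,5,6,1,2,4,7,3,4,8,5,7,6,1,2,3,4,6,1,5,2,7,8,3,7,1,5,6,4,8,2,3,4,8,5,6,1,2,4,7,3,4,8,5,7,6,1,2,3,4,6,1,5,2,7,8,3,7,1,5,6,4,8,2,3,6,2,8,5,6,1,2,4,7,3,4,8,5,7,6,1,2,3,4,6,1,5,2,7,8,3,7,1,5,6,4,8,2,3,5,8],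
  [8,5,3,2,8,4,6,5,1,7,3,8,7,2,5,1,6,4,3,2,1,6,7,5,8,4,3,7,4,2,1,6,5,8,2,6,3,2,8,4,6,5,1,7,3,8,7,2,5,1,6,4,3,2,1,6,7,5,8,4,3,7,4,2,1,6,5,8,4,3,2,8,4,6,5,1,7,3,8,7,2,5,1,6,4,3,2,1,6,7,5,8,4,3,7,4,2,1,6,5,8,7,3,2,8,4,6,5,1,7,3,8,7,2,5,1,6,4,3,2,1,6,7,5,8,4,3,7,4,2,1,6,5,8,3,3,2,8,4,6,5,1,7,3,8,7,2,5,1,6,4,3,2,1,6,7,5,8,4,3,7,4,2,1,6,5,8,2,6,3,2,8,4,6,5,1,7,3,8,7,2,5,1,6,4,3,2,1,6,7,5,8,4,3,7,4,2,1,6,5,8,4,3,2,8,4,6,5,1,7,3,8,7,2,5,1,6,4,3,2,1,6,7,5,8,4,3,7,4,2,1,6,5,8,9,0,3,2,8,4,6,5,1,7,3,8,7,2,5,1,6,4,3,2,1,6,7,5,8,4,3,7,4,2,1,6,5,8,2,6,3,2,8,4,6,5,1,7,3,8,7,2,5,1,6,4,3,2,1,6,7,5,8,4,3,7,4,2,1,6,5,8,4,3,2,8,4,6,5,1,7,3,8,7,2,5,1,6,4,3,2,1,6,7,5,8,4,3,7,4,2,1,6,5,8,9,0,3,2,8,4,6,5,1,7,3,8,7,2,5,1,6,4,3,2,1,6,7,5,8,4,3,7,4,2,1,6,5,8]]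
def ses : List (List ℕ × List ℕ) := [([10], [8,5,6,1,2,4,7,3,4,8,5,7,6,1,2,3,4,6,1,5,2,7,8,3,7,1,5,6,4,8,2,3]),
  ([11,10], []),
  ([12], [10,4,10,6,2,10]),
  ([13,12], []),
  ([14], [12,3,10,7,12,5,8]),
  ([15,14], []),
  ([16], [10,0,9,12,0,9,14]),
  ([17,16], [])]
theorem slp_ok : slpOK id 10 defs ses = true := by decide +kernel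

/-- the letters `a, …, j` and eight further letters -/
noncomputable def gx : ℕ → Cfsg.Spor.Fi23 := subst Fi23.g0 defs

end CL.BM
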