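/- The second certificate (generated by tools/bm/emitdce.py). -/
import Cfsg.Agent.SPOR.BM.E1
import Cfsg.Agent.SPOR.BM.Glue2
import Cfsg.Agent.SPOR.BM.E2K0
import Cfsg.Agent.SPOR.BM.E2K1
import Cfsg.Agent.SPOR.BM.E2K2
import Cfsg.Agent.SPOR.BM.E2K3
import Cfsg.Agent.SPOR.BM.E2K4
import Cfsg.Agent.SPOR.BM.E2K5
import Cfsg.Agent.SPOR.BM.E2K6
import Cfsg.Agent.SPOR.BM.E2K7
set_option autoImplicit false
set_option Elab.async false
set_option maxRecDepth 100000

namespace CL.BM.E2
open CL.CE CL.K CL.Net CL.DCE

theorem up0 : Upto pa bs st.get pt.get gv qt.get 0 := upto_zero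
theorem up79 : Upto pa bs st.get pt.get gv qt.get 79 := up0.step ci0 rfl
theorem up120 : Upto pa bs st.get pt.get gv qt.get 120 := up79.step ci79 rfl
theorem up147 : Upto pa bs st.get pt.get gv qt.get 147 := up120.step ci120 rfl
theorem up175 : Upto pa bs st.get pt.get gv qt.get 175 := up147.step ci147 rfl
theorem up204 : Upto pa bs st.get pt.get gv qt.get 204 := up175.step ci175 rfl
theorem up237 : Upto pa bs st.get pt.get gv qt.get 237 := up204.step ci204 rfl
theorem up266 : Upto pa bs st.get pt.get gv qt.get 266 := up237.step ci237 rfl
theorem up292 : Upto pa bs st.get pt.get gv qt.get 292 := up266.step ci266 rfl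
theorem up315 : Upto pa bs st.get pt.get gv qt.get 315 := up292.step ci292 rfl
theorem up341 : Upto pa bs st.get pt.get gv qt.get 341 := up315.step ci315 rfl
theorem up368 : Upto pa bs st.get pt.get gv qt.get 368 := up341.step ci341 rfl
theorem up389 : Upto pa bs st.get pt.get gv qt.get 389 := up368.step ci368 rfl
theorem up412 : Upto pa bs st.get pt.get gv qt.get 412 := up389.step ci389 rfl
theorem up421 : Upto pa bs st.get pt.get gv qt.get 421 := up412.step ci412 rfl
theorem up440 : Upto pa bs st.get pt.get gv qt.get 440 := up421.step ci421 rfl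
theorem up463 : Upto pa bs st.get pt.get gv qt.get 463 := up440.step ci440 rfl
theorem up481 : Upto pa bs st.get pt.get gv qt.get 481 := up463.step ci463 rfl
theorem up487 : Upto pa bs st.get pt.get gv qt.get 487 := up481.step ci481 rfl
theorem up500 : Upto pa bs st.get pt.get gv qt.get 500 := up487.step ci487 rfl
theorem up521 : Upto pa bs st.get pt.get gv qt.get 521 := up500.step ci500 rfl
theorem up534 : Upto pa bs st.get pt.get gv qt.get 534 := up521.step ci521 rfl
theorem up542 : Upto pa bs st.get pt.get gv qt.get 542 := up534.step ci534 rfl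
theorem up550 : Upto pa bs st.get pt.get gv qt.get 550 := up542.step ci542 rfl
theorem up558 : Upto pa bs st.get pt.get gv qt.get 558 := up550.step ci550 rfl
theorem up565 : Upto pa bs st.get pt.get gv qt.get 565 := up558.step ci558 rfl
theorem up573 : Upto pa bs st.get pt.get gv qt.get 573 := up565.step ci565 rfl
theorem up579 : Upto pa bs st.get pt.get gv qt.get 579 := up573.step ci573 rfl
theorem up587 : Upto pa bs st.get pt.get gv qt.get 587 := up579.step ci579 rfl
theorem up594 : Upto pa bs st.get pt.get gv qt.get 594 := up587.step ci587 rfl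
theorem up602 : Upto pa bs st.get pt.get gv qt.get 602 := up594.step ci594 rfl
theorem up610 : Upto pa bs st.get pt.get gv qt.get 610 := up602.step ci602 rfl
theorem up640 : Upto pa bs st.get pt.get gv qt.get 640 := up610.step ci610 rfl
theorem up657 : Upto pa bs st.get pt.get gv qt.get 657 := up640.step ci640 rfl
theorem up670 : Upto pa bs st.get pt.get gv qt.get 670 := up657.step ci657 rfl
theorem up701 : Upto pa bs st.get pt.get gv qt.get 701 := up670.step ci670 rfl
theorem up715 : Upto pa bs st.get pt.get gv qt.get 715 := up701.step ci701 rfl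
theorem up731 : Upto pa bs st.get pt.get gv qt.get 731 := up715.step ci715 rfl
theorem up739 : Upto pa bs st.get pt.get gv qt.get 739 := up731.step ci731 rfl
theorem up747 : Upto pa bs st.get pt.get gv qt.get 747 := up739.step ci739 rfl
theorem up755 : Upto pa bs st.get pt.get gv qt.get 755 := up747.step ci747 rfl
theorem up763 : Upto pa bs st.get pt.get gv qt.get 763 := up755.step ci755 rfl
theorem up771 : Upto pa bs st.get pt.get gv qt.get 771 := up763.step ci763 rfl
theorem up779 : Upto pa bs st.get pt.get gv qt.get 779 := up771.step ci771 rfl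
theorem up788 : Upto pa bs st.get pt.get gv qt.get 788 := up779.step ci779 rfl
theorem up796 : Upto pa bs st.get pt.get gv qt.get 796 := up788.step ci788 rfl
theorem up803 : Upto pa bs st.get pt.get gv qt.get 803 := up796.step ci796 rfl
theorem up811 : Upto pa bs st.get pt.get gv qt.get 811 := up803.step ci803 rfl
theorem up819 : Upto pa bs st.get pt.get gv qt.get 819 := up811.step ci811 rfl
theorem up827 : Upto pa bs st.get pt.get gv qt.get 827 := up819.step ci819 rfl
theorem up835 : Upto pa bs st.get pt.get gv qt.get 835 := up827.step ci827 rfl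
theorem up843 : Upto pa bs st.get pt.get gv qt.get 843 := up835.step ci835 rfl
theorem up851 : Upto pa bs st.get pt.get gv qt.get 851 := up843.step ci843 rfl
theorem up859 : Upto pa bs st.get pt.get gv qt.get 859 := up851.step ci851 rfl
theorem up868 : Upto pa bs st.get pt.get gv qt.get 868 := up859.step ci859 rfl
theorem up876 : Upto pa bs st.get pt.get gv qt.get 876 := up868.step ci868 rfl
theorem up882 : Upto pa bs st.get pt.get gv qt.get 882 := up876.step ci876 rfl
theorem up904 : Upto pa bs st.get pt.get gv qt.get 904 := up882.step ci882 rfl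
theorem up917 : Upto pa bs st.get pt.get gv qt.get 917 := up904.step ci904 rfl
theorem up926 : Upto pa bs st.get pt.get gv qt.get 926 := up917.step ci917 rfl
theorem up934 : Upto pa bs st.get pt.get gv qt.get 934 := up926.step ci926 rfl
theorem up943 : Upto pa bs st.get pt.get gv qt.get 943 := up934.step ci934 rfl
theorem up951 : Upto pa bs st.get pt.get gv qt.get 951 := up943.step ci943 rfl
theorem up959 : Upto pa bs st.get pt.get gv qt.get 959 := up951.step ci951 rfl
theorem up967 : Upto pa bs st.get pt.get gv qt.get 967 := up959.step ci959 rfl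
theorem up975 : Upto pa bs st.get pt.get gv qt.get 975 := up967.step ci967 rfl
theorem up983 : Upto pa bs st.get pt.get gv qt.get 983 := up975.step ci975 rfl
theorem up991 : Upto pa bs st.get pt.get gv qt.get 991 := up983.step ci983 rfl
theorem up999 : Upto pa bs st.get pt.get gv qt.get 999 := up991.step ci991 rfl
theorem up1005 : Upto pa bs st.get pt.get gv qt.get 1005 := up999.step ci999 rfl
theorem up1012 : Upto pa bs st.get pt.get gv qt.get 1012 := up1005.step ci1005 rfl
theorem up1020 : Upto pa bs st.get pt.get gv qt.get 1020 := up1012.step ci1012 rfl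
theorem up1030 : Upto pa bs st.get pt.get gv qt.get 1030 := up1020.step ci1020 rfl
theorem up1039 : Upto pa bs st.get pt.get gv qt.get 1039 := up1030.step ci1030 rfl
theorem up1048 : Upto pa bs st.get pt.get gv qt.get 1048 := up1039.step ci1039 rfl
theorem up1056 : Upto pa bs st.get pt.get gv qt.get 1056 := up1048.step ci1048 rfl
theorem up1062 : Upto pa bs st.get pt.get gv qt.get 1062 := up1056.step ci1056 rfl
theorem up1085 : Upto pa bs st.get pt.get gv qt.get 1085 := up1062.step ci1062 rfl
theorem up1098 : Upto pa bs st.get pt.get gv qt.get 1098 := up1085.step ci1085 rfl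
theorem up1107 : Upto pa bs st.get pt.get gv qt.get 1107 := up1098.step ci1098 rfl
theorem up1115 : Upto pa bs st.get pt.get gv qt.get 1115 := up1107.step ci1107 rfl
theorem up1123 : Upto pa bs st.get pt.get gv qt.get 1123 := up1115.step ci1115 rfl
theorem up1142 : Upto pa bs st.get pt.get gv qt.get 1142 := up1123.step ci1123 rfl
theorem up1168 : Upto pa bs st.get pt.get gv qt.get 1168 := up1142.step ci1142 rfl
theorem up1185 : Upto pa bs st.get pt.get gv qt.get 1185 := up1168.step ci1168 rfl
theorem up1205 : Upto pa bs st.get pt.get gv qt.get 1205 := up1185.step ci1185 rfl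
theorem up1214 : Upto pa bs st.get pt.get gv qt.get 1214 := up1205.step ci1205 rfl
theorem up1223 : Upto pa bs st.get pt.get gv qt.get 1223 := up1214.step ci1214 rfl
theorem up1231 : Upto pa bs st.get pt.get gv qt.get 1231 := up1223.step ci1223 rfl
theorem up1239 : Upto pa bs st.get pt.get gv qt.get 1239 := up1231.step ci1231 rfl
theorem up1247 : Upto pa bs st.get pt.get gv qt.get 1247 := up1239.step ci1239 rfl
theorem up1255 : Upto pa bs st.get pt.get gv qt.get 1255 := up1247.step ci1247 rfl
theorem up1263 : Upto pa bs st.get pt.get gv qt.get 1263 := up1255.step ci1255 rfl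
theorem up1272 : Upto pa bs st.get pt.get gv qt.get 1272 := up1263.step ci1263 rfl
theorem up1281 : Upto pa bs st.get pt.get gv qt.get 1281 := up1272.step ci1272 rfl
theorem up1289 : Upto pa bs st.get pt.get gv qt.get 1289 := up1281.step ci1281 rfl
theorem up1297 : Upto pa bs st.get pt.get gv qt.get 1297 := up1289.step ci1289 rfl
theorem up1305 : Upto pa bs st.get pt.get gv qt.get 1305 := up1297.step ci1297 rfl
theorem up1313 : Upto pa bs st.get pt.get gv qt.get 1313 := up1305.step ci1305 rfl
theorem up1321 : Upto pa bs st.get pt.get gv qt.get 1321 := up1313.step ci1313 rfl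
theorem up1329 : Upto pa bs st.get pt.get gv qt.get 1329 := up1321.step ci1321 rfl
theorem up1343 : Upto pa bs st.get pt.get gv qt.get 1343 := up1329.step ci1329 rfl
theorem up1364 : Upto pa bs st.get pt.get gv qt.get 1364 := up1343.step ci1343 rfl
theorem up1379 : Upto pa bs st.get pt.get gv qt.get 1379 := up1364.step ci1364 rfl
theorem up1388 : Upto pa bs st.get pt.get gv qt.get 1388 := up1379.step ci1379 rfl
theorem up1397 : Upto pa bs st.get pt.get gv qt.get 1397 := up1388.step ci1388 rfl
theorem up1407 : Upto pa bs st.get pt.get gv qt.get 1407 := up1397.step ci1397 rfl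
theorem up1418 : Upto pa bs st.get pt.get gv qt.get 1418 := up1407.step ci1407 rfl
theorem up1429 : Upto pa bs st.get pt.get gv qt.get 1429 := up1418.step ci1418 rfl
theorem up1451 : Upto pa bs st.get pt.get gv qt.get 1451 := up1429.step ci1429 rfl
theorem up1461 : Upto pa bs st.get pt.get gv qt.get 1461 := up1451.step ci1451 rfl
theorem up1469 : Upto pa bs st.get pt.get gv qt.get 1469 := up1461.step ci1461 rfl
theorem up1478 : Upto pa bs st.get pt.get gv qt.get 1478 := up1469.step ci1469 rfl
theorem up1486 : Upto pa bs st.get pt.get gv qt.get 1486 := up1478.step ci1478 rfl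
theorem up1494 : Upto pa bs st.get pt.get gv qt.get 1494 := up1486.step ci1486 rfl
theorem up1503 : Upto pa bs st.get pt.get gv qt.get 1503 := up1494.step ci1494 rfl
theorem up1512 : Upto pa bs st.get pt.get gv qt.get 1512 := up1503.step ci1503 rfl
theorem up1522 : Upto pa bs st.get pt.get gv qt.get 1522 := up1512.step ci1512 rfl
theorem up1528 : Upto pa bs st.get pt.get gv qt.get 1528 := up1522.step ci1522 rfl
theorem up1537 : Upto pa bs st.get pt.get gv qt.get 1537 := up1528.step ci1528 rfl
theorem up1545 : Upto pa bs st.get pt.get gv qt.get 1545 := up1537.step ci1537 rfl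
theorem up1566 : Upto pa bs st.get pt.get gv qt.get 1566 := up1545.step ci1545 rfl
theorem up1585 : Upto pa bs st.get pt.get gv qt.get 1585 := up1566.step ci1566 rfl
theorem up1594 : Upto pa bs st.get pt.get gv qt.get 1594 := up1585.step ci1585 rfl
theorem up1607 : Upto pa bs st.get pt.get gv qt.get 1607 := up1594.step ci1594 rfl
theorem up1632 : Upto pa bs st.get pt.get gv qt.get 1632 := up1607.step ci1607 rfl
theorem up1650 : Upto pa bs st.get pt.get gv qt.get 1650 := up1632.step ci1632 rfl
theorem up1659 : Upto pa bs st.get pt.get gv qt.get 1659 := up1650.step ci1650 rfl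
theorem up1667 : Upto pa bs st.get pt.get gv qt.get 1667 := up1659.step ci1659 rfl
theorem up1683 : Upto pa bs st.get pt.get gv qt.get 1683 := up1667.step ci1667 rfl
theorem up1707 : Upto pa bs st.get pt.get gv qt.get 1707 := up1683.step ci1683 rfl
theorem up1718 : Upto pa bs st.get pt.get gv qt.get 1718 := up1707.step ci1707 rfl
theorem up1725 : Upto pa bs st.get pt.get gv qt.get 1725 := up1718.step ci1718 rfl
theorem up1731 : Upto pa bs st.get pt.get gv qt.get 1731 := up1725.step ci1725 rfl
theorem up1736 : Upto pa bs st.get pt.get gv qt.get 1736 := up1731.step ci1731 rfl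
theorem up1739 : Upto pa bs st.get pt.get gv qt.get 1739 := up1736.step ci1736 rfl
theorem upto : Upto pa bs st.get pt.get gv qt.get 1739 := up1739
theorem ctx : Ctx Fi23.φ 31671 lam pa bs pt.get := BM.ctx (by decide +kernel)
theorem holds : ∃ t, Mirror t ∧ ∀ e < 1739, Holds lam ψ0 t pt.get (st.get e) := by
  obtain ⟨t, h1, h2⟩ := exists_t (gv := gv) (u := 0xb03120f0810110c091004020f04050d) (v := 0x40811110512120b0d0d03040b080b0f) (w := 0x110e03110110101104080b0b1005040e)
    (e0 := 398) (e1 := 409) (es := [399, 400, 401, 402, 403, 404, 405, 406, 407, 408]) E1.ctx ctx E1.holds (by decide +kernel) (by decide +kernel)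
  exact ⟨t, h1, ctx.holds h2 upto⟩
def ns : List ℕ := [1718, 1719, 1720, 1721, 1722, 1723, 1724, 1725, 1726, 1727, 1728, 1729, 1730, 1731, 1732, 1733, 1734, 1735, 1736, 1737, 1738]
def szl : List ℕ := [1, 412896, 86316516, 23478092352, 33816182400, 1584771233760, 195747435, 8537488128, 7888639030272, 133120783635840, 262954634342400, 5282570779200, 283991005089792, 1044084577536, 190172548051200, 21514470082560, 160533964800, 50712679480320, 12678169870080, 43028940165120, 504245392560, 1152560897280, 113778447552]
def El : List ℕ := [0x64ce000000, 0x4ffb00de1e06f0f0000200001, 0x165000b28000000433c80000000110000000008800000, 0x3f4802f4002f4003f4808340375f0135c0000000008703fcf0000000088000010000100000, 0x6c0222c00000000000000000000001e602671805b2000f30000001338c0000800000000000000400000, 0x299002a0012d001ab80000000000000e100000007a8001ef02648000d200000000000000010001e00690000f20000f0000000000, 0x1fa000000000000000003f400000000000000000000000000000000000000000000000000000000001fa00000003f40000000000000000, 0xf3a2000002b8181e74400000000000000000000000000000007850000000039c00000000000000003c2800000001ce0000000000,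 0x6270095104ec005eec14316000000087005eec0002416608005462567001fa40027200001000000000000064000ec000010000000000, 0x1f00020005e00033000a2c000000007000d9800000017c0000a0024fe005c78001e00000000000000280002800028000000000000000, 0x2370000002be00054602664000900360014034001e61f458005e813ee812ba3011f40000100000003b10000100003000000000000000, 0x10e00000001f8000000058e000040063c0076b0000002b50000080126000fc00007e00000000000009480000000048000000000000000, 0x2400258000a0039a80151805e2e00000018d80fd20000b01ed4000ce41cf480b220009f20000000000000af0000000001000000000000000, 0x5500000013ec000550084d000000000001de20005500bb00000001de2000000001100000000000000000000000110000000000000000, 0xa8000800001c0754000c1003e900004000c401a840002a017a000034c1bac009840003f000000000000001e0000000002000000000000000, 0x420000000948036a807404106f800000001b806c4800000147f00187e2940002b5000318000000000000000000dc00000000000000000000, 0x46e00000000000e6580941400000002d8000001282800000000000083a3996000000000000000000000000000016c00000000000000000000, 0xd30001500d20001a4015a60000006f900ea9c002bc20f68009420c7101ab3803242000150000100d5c0000000000000000000000000,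 0x5780000000540000f000690001e00c4e00b4f0000701d8800000006d602178003b100007800000025a00000000000000000000000000, 0x420000000000052280018c00f78000dc01b5420634007bc17c88003de10c20122d000e7000000000000018c0000000000000000000000000, 0x6e0000000000000000008400000018c00029400000016000000000000021000091c00042000000082a00000000000000000000000000, 0x3020000003c2802444000000000005280004d02418004d581f9500dfc802a1c0000000016000000000000000000000000000000, 0xc80000000000006180000000000000640030c0448e00000015f00000000000000000000000000000000000000000000000000000000000000]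
theorem sep_ok : sepOK 23 (fun i => fld 20 1048575 (El.getD i 0)) (fun i => szl.getD i 0) = true := by
  decide +kernel
theorem nodes_ok : nodesOK2 st.get 1739 23 ns (fun i => szl.getD i 0) = true := by decide +kernel

end CL.BM.E2
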