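/-
The links and edges used by the covers are items of the certificate.
-/
import Cfsg.Agent.SPOR.BM.E2Item
import Cfsg.Agent.SPOR.BM.C0
import Cfsg.Agent.SPOR.BM.C1
import Cfsg.Agent.SPOR.BM.C2
import Cfsg.Agent.SPOR.BM.C3
import Cfsg.Agent.SPOR.BM.C4
import Cfsg.Agent.SPOR.BM.C5
import Cfsg.Agent.SPOR.BM.C6
import Cfsg.Agent.SPOR.BM.C7
import Cfsg.Agent.SPOR.BM.C8
import Cfsg.Agent.SPOR.BM.C9

set_option autoImplicit false
set_option Elab.async false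
set_option maxRecDepth 100000

namespace CL.BM
open CL.CE CL.K CL.Net CL.DCE

theorem it1 : itemOK pa A.pb bs E2.st.get 1739 kl 23 1 D1 = true := by decide +kernel
theorem it2 : itemOK pa A.pb bs E2.st.get 1739 kl 23 2 D2 = true := by decide +kernel
theorem it3 : itemOK pa A.pb bs E2.st.get 1739 kl 23 3 D3 = true := by decide +kernel
theorem it4 : itemOK pa A.pb bs E2.st.get 1739 kl 23 4 D4 = true := by decide +kernel
theorem it5 : itemOK pa A.pb bs E2.st.get 1739 kl 23 5 D5 = true := by decide +kernel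
theorem it6 : itemOK pa A.pb bs E2.st.get 1739 kl 23 6 D6 = true := by decide +kernel
theorem it7 : itemOK pa A.pb bs E2.st.get 1739 kl 23 7 D7 = true := by decide +kernel
theorem it8 : itemOK pa A.pb bs E2.st.get 1739 kl 23 8 D8 = true := by decide +kernel
theorem it9 : itemOK pa A.pb bs E2.st.get 1739 kl 23 9 D9 = true := by decide +kernel
theorem it10 : itemOK pa A.pb bs E2.st.get 1739 kl 23 10 D10 = true := by decide +kernel
theorem it11 : itemOK pa A.pb bs E2.st.get 1739 kl 23 11 D11 = true := by decide +kernel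
theorem it12 : itemOK pa A.pb bs E2.st.get 1739 kl 23 12 D12 = true := by decide +kernel
theorem it13 : itemOK pa A.pb bs E2.st.get 1739 kl 23 13 D13 = true := by decide +kernel
theorem it14 : itemOK pa A.pb bs E2.st.get 1739 kl 23 14 D14 = true := by decide +kernel
theorem it15 : itemOK pa A.pb bs E2.st.get 1739 kl 23 15 D15 = true := by decide +kernel
theorem it16 : itemOK pa A.pb bs E2.st.get 1739 kl 23 16 D16 = true := by decide +kernel
theorem it17 : itemOK pa A.pb bs E2.st.get 1739 kl 23 17 D17 = true := by decide +kernel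
theorem it18 : itemOK pa A.pb bs E2.st.get 1739 kl 23 18 D18 = true := by decide +kernel
theorem it19 : itemOK pa A.pb bs E2.st.get 1739 kl 23 19 D19 = true := by decide +kernel
theorem it20 : itemOK pa A.pb bs E2.st.get 1739 kl 23 20 D20 = true := by decide +kernel
theorem it21 : itemOK pa A.pb bs E2.st.get 1739 kl 23 21 D21 = true := by decide +kernel
theorem it22 : itemOK pa A.pb bs E2.st.get 1739 kl 23 22 D22 = true := by decide +kernel

/-- the data of the nodes -/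
noncomputable def DL : List ND :=
  [D1, D2, D3, D4, D5, D6, D7, D8, D9, D10, D11, D12, D13, D14, D15, D16, D17, D18, D19, D20, D21, D22]

theorem allD : AllN (fun i D => MaskOK netsX 412896 19 D ∧
    itemOK pa A.pb bs E2.st.get 1739 kl 23 i D = true) 1 DL :=
  ⟨⟨mk1, it1⟩, ⟨⟨mk2, it2⟩, ⟨⟨mk3, it3⟩, ⟨⟨mk4, it4⟩, ⟨⟨mk5, it5⟩, ⟨⟨mk6, it6⟩, ⟨⟨mk7, it7⟩, ⟨⟨mk8, it8⟩, ⟨⟨mk9, it9⟩, ⟨⟨mk10, it10⟩, ⟨⟨mk11, it11⟩, ⟨⟨mk12, it12⟩, ⟨⟨mk13, it13⟩, ⟨⟨mk14, it14⟩, ⟨⟨mk15, it15⟩, ⟨⟨mk16, it16⟩, ⟨⟨mk17, it17⟩, ⟨⟨mk18, it18⟩, ⟨⟨mk19, it19⟩, ⟨⟨mk20, it20⟩, ⟨⟨mk21, it21⟩, ⟨⟨mk22, it22⟩, trivial⟩⟩⟩⟩⟩⟩⟩⟩⟩⟩⟩⟩⟩⟩⟩⟩⟩⟩⟩⟩⟩⟩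

end CL.BM
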