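/-
The double coset table of the presented Baby Monster over `Fi₂₃`.
-/
import Cfsg.Agent.SPOR.BM.E2
import Cfsg.Agent.SPOR.BM.Rows

set_option autoImplicit false

namespace CL.BM

/-- the table of the double cosets of `Fi₂₃` exists -/
theorem exists_bt : ∃ γ r τ sz, BT γ r τ sz :=
  let ⟨_, h1, h2⟩ := E2.holds
  bt_of_holds E2.ctx h1 h2

end CL.BM
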